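import Groth.Prelude.Def_LefMon
import Groth.Prelude.Def_AlgGrp
import Groth.Prelude.Def_Red
import Groth.Prelude.Def_Red2
import Groth.Agent.EtAdic.K833.FibSeq
import Groth.Agent.EtAdic.K833.AcycSm
import Groth.Agent.EtAdic.K833.VecAcyc
import Groth.Agent.EtAdic.K98.BettiCard
import Groth.Agent.AlgGrp.K399.HopfDom
import Groth.Agent.Etrest.SHPoint
import Mathlib.AlgebraicGeometry.Morphisms.LocalFlatDescent

/-!
# Quotients by connected unipotent normal subgroups preserve the `ℓ`-adic Betti numbers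
-/

set_option autoImplicit false
universe u
open CategoryTheory CategoryTheory.Limits MonoidalCategory CartesianMonoidalCategory MonObj GrpObj AlgebraicGeometry
attribute [local instance] HasDerivedCategory.standard

namespace K359.BettiU

open Groth.Agent.Sga4h Groth.Agent.Sga4h.Acyc Groth.Agent.Books.AffBridge

theorem betti_congr (Y Z : Scheme.{u}) (ℓ : ℕ) [hℓ : Fact ℓ.Prime] (q q' : ℕ)
    (hY : ∀ i, Finite (EtAdic.Hmod Y ℓ i 1)) (hZ : ∀ i, Finite (EtAdic.Hmod Z ℓ i 1))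
    (h : ∀ ν, Nat.card (EtAdic.Hmod Y ℓ q ν) = Nat.card (EtAdic.Hmod Z ℓ q' ν)) :
    EtAdic.betti Y ℓ q = EtAdic.betti Z ℓ q' := by
  obtain ⟨B, hB⟩ := Groth.Agent.Lefpen.H710.Growth.card_succ Y ℓ hY q
  obtain ⟨B', hB'⟩ := Groth.Agent.Lefpen.H710.Growth.card_succ Z ℓ hZ q'
  have h1 := hB (max B B') (le_max_left _ _)
  have h2 := hB' (max B B') (le_max_right _ _)
  have hf := Groth.Agent.Lefpen.H710.Growth.finite_Hmod Z ℓ hZ q' (max B B')
  have hpos : 0 < Nat.card (EtAdic.Hmod Z ℓ q' (max B B')) := Nat.card_pos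
  rw [h, h, h2] at h1
  exact (Nat.pow_right_injective hℓ.out.two_le (Nat.eq_of_mul_eq_mul_right hpos h1)).symm

variable {k : Type u} [Field k]

section fin

variable (ℓ : ℕ) [Fact ℓ.Prime] (hℓ : (ℓ : k) ≠ 0)

omit [Fact ℓ.Prime] in
include hℓ in
theorem pow_ne (ν : ℕ) : ((ℓ ^ ν : ℕ) : k) ≠ 0 := by
  rw [Nat.cast_pow]
  exact pow_ne_zero _ hℓ

omit [Fact ℓ.Prime] in
theorem smul_zero' (ν : ℕ) (x : ZMod (ℓ ^ ν)) : (ℓ ^ ν) • x = 0 := by
  rw [nsmul_eq_mul, ZMod.natCast_self, zero_mul]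

include hℓ in
/-- Finiteness of the cohomology of schemes of finite type over a separably closed field. -/
theorem finite_Hmod [IsSepClosed k] {X : Scheme.{u}} (q : X ⟶ Spec (CommRingCat.of k)) [LocallyOfFiniteType q]
    [QuasiCompact q] (i ν : ℕ) : Finite (EtAdic.Hmod X ℓ i ν) := by
  have : NeZero (ℓ ^ ν) := ⟨pow_ne_zero _ (Fact.out : ℓ.Prime).ne_zero⟩
  exact K833.FieldRpush.finite_H (pow_ne ℓ hℓ ν) q _
    (Groth.Agent.Etrest.ConstBasic.isConstructible_const X (ZMod (ℓ ^ ν)))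
    (Groth.Agent.Etrest.ConstBasic.killedBy_const _ (ZMod (ℓ ^ ν)) (ℓ ^ ν) (smul_zero' ℓ ν)) i

omit [Fact ℓ.Prime] in
/-- Pullback along an acyclic morphism is bijective. -/
theorem card_of_acyc {X Y : Scheme.{u}} (f : X ⟶ Y) (ν : ℕ)
    (h : Acyc f (EtCoh.const Y (ZMod (ℓ ^ ν)))) (i : ℕ) :
    Nat.card (EtAdic.Hmod X ℓ i ν) = Nat.card (EtAdic.Hmod Y ℓ i ν) :=
  (Nat.card_congr (Equiv.ofBijective _ (K833.AcycDesc.HC_bijective (ZMod (ℓ ^ ν)) f h i))).symm

end fin

section acyc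

variable [IsAlgClosed k] {m : ℕ} (hm : (m : k) ≠ 0)

/-- Connected unipotent groups over an algebraically closed field are affine spaces. -/
theorem exists_vec (U : Over (Spec (CommRingCat.of k))) [GrpObj U] [Smooth U.hom] [IsAffine U.left]
    [ConnectedSpace ↥U.left] (hU : Red.HasNoSubtorus k U) :
    ∃ (E : Type u) (_ : AddCommGroup E) (_ : Module k E) (_ : Module.Finite k E),
      Nonempty (U ≅ SpecOver k (SymmetricAlgebra k E)) := by
  obtain ⟨A, _, _, _, _, e, he⟩ := K399.HopfDom.exists_hopf_domain U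
  obtain ⟨n, ⟨g⟩⟩ := K399.HopfDom.exists_mvPolynomial (fun x => K399.HopfDom.isUnip_of_noSubtorus e hU x)
  let E := ULift.{u} (Fin n) →₀ k
  let b : Module.Basis (ULift.{u} (Fin n)) k E := Finsupp.basisSingleOne
  let φ : SymmetricAlgebra k E ≃ₐ[k] MvPolynomial (ULift.{u} (Fin n)) k :=
    SymmetricAlgebra.equivMvPolynomial b
  let ψ : MvPolynomial (ULift.{u} (Fin n)) k ≃ₐ[k] MvPolynomial (Fin n) k :=
    MvPolynomial.renameEquiv k Equiv.ulift
  let χ : A ≃ₐ[k] SymmetricAlgebra k E := g.trans (ψ.symm.trans φ.symm)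
  refine ⟨E, inferInstance, inferInstance, inferInstance, ⟨e ≪≫ ?_⟩⟩
  exact
    { hom := specMap k χ.symm.toAlgHom
      inv := specMap k χ.toAlgHom
      hom_inv_id := by
        rw [← specMap_comp]
        have : χ.symm.toAlgHom.comp χ.toAlgHom = AlgHom.id k A := by
          apply AlgHom.ext
          intro x
          exact χ.symm_apply_apply x
        rw [this, specMap_id]
      inv_hom_id := by
        rw [← specMap_comp]
        have : χ.toAlgHom.comp χ.symm.toAlgHom = AlgHom.id k _ := by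
          apply AlgHom.ext
          intro x
          exact χ.apply_symm_apply x
        rw [this, specMap_id] }

include hm in
/-- Connected unipotent groups are acyclic. -/
theorem acyc_unip (U : Over (Spec (CommRingCat.of k))) [GrpObj U] [Smooth U.hom] [IsAffine U.left]
    [ConnectedSpace ↥U.left] (hU : Red.HasNoSubtorus k U) (M : Type) [AddCommGroup M]
    [Finite M] (hM : ∀ x : M, m • x = 0) :
    Acyc U.hom (EtCoh.const (Spec (CommRingCat.of k)) M) := by
  obtain ⟨E, _, _, _, ⟨e⟩⟩ := exists_vec U hU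
  exact K833.VecAcyc.acyc_vec hm U E e M hM

omit [IsAlgClosed k] in
include hm in
/-- A faithfully flat homomorphism with smooth acyclic kernel is acyclic. -/
theorem acyc_of_ker {U G Q : Over (Spec (CommRingCat.of k))} [GrpObj G] [GrpObj Q]
    [Smooth U.hom] [QuasiCompact U.hom] [LocallyOfFiniteType G.hom] [QuasiCompact G.hom]
    (i : U ⟶ G) (π : G ⟶ Q) [IsMonHom π] [Flat π.left] [Surjective π.left] (hker : AlgGrp.IsKernel i π)
    (M : Type) [AddCommGroup M] [Finite M] (hM : ∀ x : M, m • x = 0)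
    (hU : Acyc U.hom (EtCoh.const (Spec (CommRingCat.of k)) M)) :
    Smooth π.left ∧ Acyc π.left (EtCoh.const Q.left M) := by
  obtain ⟨d, hd⟩ := K833.FibSeq.exists_square i π hker
  have hGn : IsLocallyNoetherian G.left := LocallyOfFiniteType.isLocallyNoetherian G.hom
  have hGc : CompactSpace G.left := QuasiCompact.compactSpace_of_compactSpace G.hom
  have hGN : IsNoetherian G.left := ⟨⟩
  have hq1 : QuasiCompact π.left := inferInstance
  have hq2 : QuasiSeparated π.left := inferInstance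
  have h1 : IsPullback (pullback.snd π.left π.left) (pullback.fst π.left π.left) π.left π.left :=
    (IsPullback.of_hasPullback π.left π.left).flip
  have hs1 : Smooth (pullback.fst π.left π.left) :=
    MorphismProperty.of_isPullback hd.flip (inferInstance : Smooth U.hom)
  have hsm : Smooth π.left :=
    MorphismProperty.DescendsAlong.of_isPullback (P := @Smooth) (Q := @Surjective ⊓ @Flat ⊓ @QuasiCompact)
      h1.flip ⟨⟨inferInstanceAs (Surjective π.left), inferInstanceAs (Flat π.left)⟩,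
        inferInstanceAs (QuasiCompact π.left)⟩ hs1
  have h2 := K833.Triv.acyc_baseChange hm U.hom hd.flip M hM hU
  exact ⟨hsm, K833.AcycSm.acyc_of_smooth_cover h1 m (K833.FibSeq.isUnit_cast hm Q.hom) _
    (Groth.Agent.Etrest.ConstBasic.killedBy_const _ M m hM)
    (h2.of_iso (EtCore.pullConst _ M).symm)⟩

end acyc

/-- Node U of S14753. -/
theorem betti_unipotent (k : Type u) [Field k] [IsAlgClosed k] (ℓ : ℕ) [Fact ℓ.Prime] (hℓ : (ℓ : k) ≠ 0)
    (U G Q : Over (Spec (CommRingCat.of k))) [GrpObj U] [GrpObj G] [GrpObj Q]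
    [Smooth U.hom] [IsAffine U.left] [ConnectedSpace ↥U.left] (hU : Red.HasNoSubtorus k U)
    [Smooth G.hom] [QuasiCompact G.hom] [ConnectedSpace ↥G.left]
    [Smooth Q.hom] [QuasiCompact Q.hom] [ConnectedSpace ↥Q.left]
    (i : U ⟶ G) [IsMonHom i] [IsClosedImmersion i.left]
    (π : G ⟶ Q) [IsMonHom π] [Flat π.left] [Surjective π.left] (hker : AlgGrp.IsKernel i π) (n : ℕ) :
    EtAdic.betti G.left ℓ n = EtAdic.betti Q.left ℓ n ∧ EtAdic.betti U.left ℓ n = if n = 0 then 1 else 0 := by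
  have hne : ∀ ν, NeZero (ℓ ^ ν) := fun ν => ⟨pow_ne_zero _ (Fact.out : ℓ.Prime).ne_zero⟩
  have hUq : QuasiCompact U.hom := inferInstance
  have hA : ∀ ν, Acyc U.hom (EtCoh.const (Spec (CommRingCat.of k)) (ZMod (ℓ ^ ν))) := fun ν => by
    have := hne ν
    exact acyc_unip (pow_ne ℓ hℓ ν) U hU (ZMod (ℓ ^ ν)) (smul_zero' ℓ ν)
  refine ⟨betti_congr _ _ ℓ n n (fun i => finite_Hmod ℓ hℓ G.hom i 1) (fun i => finite_Hmod ℓ hℓ Q.hom i 1)
    fun ν => ?_, ?_⟩
  · have := hne ν
    exact card_of_acyc ℓ π.left ν (acyc_of_ker (pow_ne ℓ hℓ ν) i π hker _ (smul_zero' ℓ ν) (hA ν)).2 n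
  · refine K98.BettiCard.betti_eq U.left ℓ (fun r => if r = 0 then 1 else 0) (fun ν r => ?_) n
    have h := card_of_acyc ℓ U.hom ν (hA ν) r
    rcases eq_or_ne r 0 with rfl | hr
    · obtain ⟨e⟩ := Groth.Agent.Etrest.SHPoint.nonempty_H0_const U.left (ZMod (ℓ ^ ν))
      rw [if_pos rfl, pow_one]
      exact (Nat.card_congr e.toEquiv).trans (Nat.card_zmod _)
    · rw [if_neg hr, pow_zero]
      refine h.trans ?_
      have hs : Subsingleton (EtAdic.Hmod (Spec (CommRingCat.of k)) ℓ r ν) :=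
        Groth.Agent.Etrest.SHPoint.subsingleton_H_of_sepClosed k (EtCoh.const _ (ZMod (ℓ ^ ν))) r
          (Nat.pos_of_ne_zero hr)
      have hn : Nonempty (EtAdic.Hmod (Spec (CommRingCat.of k)) ℓ r ν) := ⟨0⟩
      exact Nat.card_eq_one_iff_unique.2 ⟨hs, hn⟩

end K359.BettiU
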